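import Mathlib
import Groth.Agent.Lib.Helper5.DRing.NilTorG

/-!
# Affine charts of the base change of a nilpotent closed immersion (helper5)
-/

set_option autoImplicit false
set_option linter.unusedSectionVars false
set_option linter.unusedVariables false
universe u
open CategoryTheory CategoryTheory.Limits Opposite TopologicalSpace AlgebraicGeometry

namespace Groth.Agent.Lib.Helper5.Thick

/-- affine charts of a pullback square on which the rings of sections form a pushout, with the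
three affine opens prescribed -/
theorem isPushout_chart {X S X' S' : Scheme.{u}} {f : X ⟶ S} {f' : X' ⟶ S'}
    {g' : X' ⟶ X} {g : S' ⟶ S} (hc : IsPullback g' f' f g) {V : S.Opens} {U : X.Opens}
    {V' : S'.Opens} (hV : IsAffineOpen V) (hU : IsAffineOpen U) (hV' : IsAffineOpen V')
    (eUV : U ≤ f ⁻¹ᵁ V) (eV'V : V' ≤ g ⁻¹ᵁ V) :
    IsAffineOpen (g' ⁻¹ᵁ U ⊓ f' ⁻¹ᵁ V') ∧
    IsPushout (f.appLE V U eUV) (g.appLE V V' eV'V)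
      (g'.appLE U (g' ⁻¹ᵁ U ⊓ f' ⁻¹ᵁ V') inf_le_left)
      (f'.appLE V' (g' ⁻¹ᵁ U ⊓ f' ⁻¹ᵁ V') inf_le_right) := by
  have hUY : g' ⁻¹ᵁ U ⊓ f' ⁻¹ᵁ V' = g' ⁻¹ᵁ U ⊓ f' ⁻¹ᵁ V' := rfl
  haveI : IsAffine (V : Scheme.{u}) := hV
  haveI : IsAffine (U : Scheme.{u}) := hU
  haveI : IsAffine (V' : Scheme.{u}) := hV'
  have hU' : IsAffineOpen (g' ⁻¹ᵁ U ⊓ f' ⁻¹ᵁ V') :=
    .of_isIso (Scheme.Hom.isPullback_resLE hc eV'V eUV hUY).isoPullback.hom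
  haveI := isIso_pushoutSection_of_isAffineOpen hc eV'V eUV hUY hV hV' hU
  exact ⟨hU', (isIso_pushoutSection_iff hc eV'V eUV hUY).1 inferInstance⟩

variable {X X' Y Y' : Scheme.{u}} {f : X ⟶ Y} {f' : X' ⟶ Y'} {i : X ⟶ X'} {j : Y ⟶ Y'}

theorem preimage_inf_eq (sq : IsPullback i f f' j) {W : Y'.Opens} {V : X'.Opens}
    (eVW : V ≤ f' ⁻¹ᵁ W) : i ⁻¹ᵁ V ⊓ f ⁻¹ᵁ (j ⁻¹ᵁ W) = i ⁻¹ᵁ V := by
  apply inf_eq_left.2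
  have h1 : f ⁻¹ᵁ (j ⁻¹ᵁ W) = i ⁻¹ᵁ (f' ⁻¹ᵁ W) := by
    rw [← Scheme.Hom.comp_preimage, ← Scheme.Hom.comp_preimage, sq.w]
  rw [h1]
  exact Scheme.Hom.preimage_mono i eVW

/-- the base change of a closed immersion with nilpotent kernel has nilpotent kernel, on affine
charts -/
theorem isNilpotent_ker_app (sq : IsPullback i f f' j) [IsClosedImmersion j] {W : Y'.Opens}
    (hW : IsAffineOpen W) (hn : IsNilpotent (RingHom.ker (j.app W).hom)) {V : X'.Opens}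
    (hV : IsAffineOpen V) (eVW : V ≤ f' ⁻¹ᵁ W) :
    IsNilpotent (RingHom.ker (i.app V).hom) := by
  obtain ⟨hU', hpo⟩ := isPushout_chart sq hW hV (hW.preimage j) eVW le_rfl
  letI := (f'.appLE W V eVW).hom.toAlgebra
  letI := (j.appLE W (j ⁻¹ᵁ W) le_rfl).hom.toAlgebra
  letI := (f.appLE (j ⁻¹ᵁ W) (i ⁻¹ᵁ V ⊓ f ⁻¹ᵁ (j ⁻¹ᵁ W)) inf_le_right).hom.toAlgebra
  letI := (i.appLE V (i ⁻¹ᵁ V ⊓ f ⁻¹ᵁ (j ⁻¹ᵁ W)) inf_le_left).hom.toAlgebra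
  letI : Algebra Γ(Y', W) Γ(X, i ⁻¹ᵁ V ⊓ f ⁻¹ᵁ (j ⁻¹ᵁ W)) :=
    ((f.appLE (j ⁻¹ᵁ W) (i ⁻¹ᵁ V ⊓ f ⁻¹ᵁ (j ⁻¹ᵁ W)) inf_le_right).hom.comp
      (j.appLE W (j ⁻¹ᵁ W) le_rfl).hom).toAlgebra
  haveI : IsScalarTower Γ(Y', W) Γ(Y, j ⁻¹ᵁ W) Γ(X, i ⁻¹ᵁ V ⊓ f ⁻¹ᵁ (j ⁻¹ᵁ W)) :=
    IsScalarTower.of_algebraMap_eq (fun _ => rfl)
  haveI : IsScalarTower Γ(Y', W) Γ(X', V) Γ(X, i ⁻¹ᵁ V ⊓ f ⁻¹ᵁ (j ⁻¹ᵁ W)) :=
    IsScalarTower.of_algebraMap_eq (fun x => by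
      have := congrArg (fun φ => φ.hom x) hpo.w
      exact this.symm)
  haveI hpo' : Algebra.IsPushout Γ(Y', W) Γ(X', V) Γ(Y, j ⁻¹ᵁ W)
      Γ(X, i ⁻¹ᵁ V ⊓ f ⁻¹ᵁ (j ⁻¹ᵁ W)) := CommRingCat.isPushout_iff_isPushout.1 hpo
  have hs : Function.Surjective (algebraMap Γ(Y', W) Γ(Y, j ⁻¹ᵁ W)) := by
    show Function.Surjective (j.appLE W (j ⁻¹ᵁ W) le_rfl).hom
    rw [Scheme.Hom.appLE_eq_app]
    exact j.app_surjective W hW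
  have hn' : IsNilpotent (RingHom.ker (algebraMap Γ(Y', W) Γ(Y, j ⁻¹ᵁ W))) := by
    show IsNilpotent (RingHom.ker (j.appLE W (j ⁻¹ᵁ W) le_rfl).hom)
    rw [Scheme.Hom.appLE_eq_app]
    exact hn
  have h1 : IsNilpotent (RingHom.ker (i.appLE V (i ⁻¹ᵁ V ⊓ f ⁻¹ᵁ (j ⁻¹ᵁ W)) inf_le_left).hom) :=
    Groth.Agent.Lib.Helper5.NilTor.pushout_ker_nilpotent Γ(Y', W) Γ(X', V) Γ(Y, j ⁻¹ᵁ W)
      Γ(X, i ⁻¹ᵁ V ⊓ f ⁻¹ᵁ (j ⁻¹ᵁ W)) hs hn'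
  have h2 := (Scheme.Hom.appLE_congr i inf_le_left rfl (preimage_inf_eq sq eVW)
    (fun φ => IsNilpotent (RingHom.ker φ.hom))).1 h1
  rw [Scheme.Hom.app_eq_appLE]
  exact h2

end Groth.Agent.Lib.Helper5.Thick
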