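import Mathlib
import Groth.Agent.Lib.Helper5.DRing.NilTorB

/-!
# An induction principle for modules over a ring with a nilpotent ideal (helper5)
-/

set_option autoImplicit false
universe u
open CategoryTheory CategoryTheory.Limits

namespace Groth.Agent.Lib.Helper5.Thick

open Groth.Agent.Lib.Helper5.NilTor

variable {R : Type u} [CommRing R]

/-- a property of modules which holds for modules killed by a nilpotent ideal `I` and is stable
under extensions holds for all modules -/
theorem nil_induction (I : Ideal R) (hnil : IsNilpotent I) (P : ModuleCat.{u} R → Prop)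
    (h0 : ∀ N : ModuleCat.{u} R, KilledBy I N → P N)
    (hext : ∀ S : ShortComplex (ModuleCat.{u} R), S.ShortExact → P S.X₁ → P S.X₃ → P S.X₂)
    (N : ModuleCat.{u} R) : P N := by
  have key : ∀ (n : ℕ) (N : ModuleCat.{u} R), KilledBy (I ^ n) N → P N := by
    intro n
    induction n with
    | zero =>
      intro N hN
      apply h0
      intro a _ x
      have h1 := hN 1 (by simp) x
      rw [one_smul] at h1
      rw [h1, smul_zero]
    | succ n ih =>
      intro N hN
      have hN' : KilledBy (I * I ^ n) N := by rwa [pow_succ'] at hN
      exact hext (SI N I) (SI_shortExact N I) (ih _ (killedBy_sub N I (I ^ n) hN'))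
        (h0 _ (killedBy_quot N I))
  obtain ⟨n, hn⟩ := hnil
  refine key n N ?_
  intro a ha x
  rw [hn] at ha
  have h2 : a = 0 := ha
  rw [h2, zero_smul]

end Groth.Agent.Lib.Helper5.Thick
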