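import Mathlib
import Groth.Prelude.Def_DCoh4
import Groth.Agent.Lib.Helper5.Thick.NilInd
import Groth.Agent.Lib.Helper5.ProjF.ClDer
import Groth.Agent.Lib.Helper5.ProjF.LpullKF
import Groth.Agent.Lib.Helper5.LTen.TensorTri
import Groth.Agent.Lib.Helper5.QC.LTenQC
import Groth.Agent.Lib.Helper5.QC.DQCTri
import Groth.Agent.Lib.Helper5.QC.RpushQC
import Groth.Agent.Lib.Helper5.QC.TildePush
import Groth.Agent.Lib.Helper5.QC.SpecMain
import Groth.Agent.Lib.Helper5.RHomQC.UnitTen
import Groth.Agent.Lib.Helper5.FinPC.FinPush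

/-!
# Quasi-coherence descends along a nilpotent thickening of affine schemes (helper5)

For `φ : R → S` surjective with nilpotent kernel and `K'` in `D(O_{Spec R})` (arbitrary), if
`L(Spec φ)^* K'` has quasi-coherent cohomology then so has `K'`.
-/

set_option autoImplicit false
set_option linter.unusedSectionVars false
set_option linter.unusedVariables false
universe u
open CategoryTheory CategoryTheory.Limits Opposite TopologicalSpace AlgebraicGeometry Pretriangulated

attribute [local instance] HasDerivedCategory.standard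

namespace Groth.Agent.Lib.Helper5.Thick

open Groth.Agent.Lib.Helper5.QC Groth.Agent.Lib.Helper5.NilTor Groth.Agent.Helper3.KInjDer
  Groth.Agent.Lib.Helper5.LpullLib

variable {R S : CommRingCat.{u}} (φ : R ⟶ S)

/-- the object `M^~ ⊗^L P'` for a module `M` -/
noncomputable abbrev TT (P' : CochainComplex (Spec (CommRingCat.of R)).Modules ℤ)
    [DCoh.HasLTensorCx P'] (N : ModuleCat.{u} R) : DCoh.D (Spec (CommRingCat.of R)) :=
  (DCoh.LTensorCx P').obj ((DCoh.tildeD R).obj
    ((DerivedCategory.singleFunctor (ModuleCat.{u} R) 0).obj N))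

theorem isQCohD_tildeD (M : DerivedCategory (ModuleCat.{u} R)) :
    DCoh.IsQCohD ((DCoh.tildeD R).obj M) :=
  ((tildeD_main R).2.2 _).2 ⟨M, ⟨Iso.refl _⟩⟩

/-- extensions -/
theorem isQCohD_TT_ext (P' : CochainComplex (Spec (CommRingCat.of R)).Modules ℤ)
    [DCoh.HasLTensorCx P'] (T : ShortComplex (ModuleCat.{u} R)) (hT : T.ShortExact)
    (h₁ : DCoh.IsQCohD (TT P' T.X₁)) (h₃ : DCoh.IsQCohD (TT P' T.X₃)) :
    DCoh.IsQCohD (TT P' T.X₂) := by
  have h0 := (DCoh.tildeD R).map_distinguished _ hT.singleTriangle_distinguished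
  obtain ⟨a, b, c, h⟩ := Groth.Agent.Lib.Helper5.LTenTri.exists_distinguished_ltensor P' _ h0
  exact isQCohD_of_triangle_mid _ h h₁ h₃

/-- modules restricted from `S` -/
theorem isQCohD_TT_res (hs : Function.Surjective φ.hom)
    (P' : CochainComplex (Spec (CommRingCat.of R)).Modules ℤ) (hP' : DCoh.IsKFlat P')
    [DCoh.HasLTensorCx P']
    (hq : DCoh.IsQCohD (DerivedCategory.Q.obj
      (((Scheme.Modules.pullback (specMap' φ)).mapHomologicalComplex (ComplexShape.up ℤ)).obj P')))
    (N' : ModuleCat.{u} S) :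
    DCoh.IsQCohD (TT P' ((ModuleCat.restrictScalars φ.hom).obj N')) := by
  haveI : IsClosedImmersion (specMap' φ) := IsClosedImmersion.spec_of_surjective φ hs
  haveI : DCoh.HasRpush (specMap' φ) := hasRightDerivedFunctor (DCoh.pushKh (specMap' φ))
  let fP := ((Scheme.Modules.pullback (specMap' φ)).mapHomologicalComplex (ComplexShape.up ℤ)).obj P'
  haveI : DCoh.HasLTensorCx fP := Groth.Agent.Lib.Helper5.LTenAll.hasLTensorCx fP
  let E : DCoh.D (Spec (CommRingCat.of S)) := (DCoh.tildeD S).obj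
    ((DerivedCategory.singleFunctor (ModuleCat.{u} S) 0).obj N')
  have hE : DCoh.IsQCohD E := isQCohD_tildeD _
  have h1 : DCoh.IsQCohD ((DCoh.LTensorCx fP).obj E) := isQCohD_LTensorCx fP hq E hE
  have h2 : DCoh.IsQCohD ((DCoh.Rpush (specMap' φ)).obj ((DCoh.LTensorCx fP).obj E)) :=
    isQCohD_rpush (specMap' φ) _ h1
  obtain ⟨e⟩ := Groth.Agent.Lib.Helper5.ProjF.nonempty_projIso_closed (specMap' φ) P' hP' E
  let e1 : (DCoh.Rpush (specMap' φ)).obj E ≅ (DCoh.tildeD R).obj
      ((DerivedCategory.singleFunctor (ModuleCat.{u} R) 0).obj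
        ((ModuleCat.restrictScalars φ.hom).obj N')) :=
    (tildeRpushIso φ).app _ ≪≫ (DCoh.tildeD R).mapIso
      (((ModuleCat.restrictScalars φ.hom).mapDerivedCategorySingleFunctor 0).app N')
  exact isQCohD_of_iso (e.symm ≪≫ (DCoh.LTensorCx P').mapIso e1) h2

/-- **quasi-coherence descends along a nilpotent thickening of affine schemes** -/
theorem isQCohD_of_lpull_affine (hs : Function.Surjective φ.hom)
    (hn : IsNilpotent (RingHom.ker φ.hom)) [DCoh.HasLpull (specMap' φ)]
    (K' : DCoh.D (Spec (CommRingCat.of R)))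
    (hK : DCoh.IsQCohD ((DCoh.Lpull (specMap' φ)).obj K')) : DCoh.IsQCohD K' := by
  let F₀ : CochainComplex (Spec (CommRingCat.of R)).Modules ℤ := DerivedCategory.Q.objPreimage K'
  obtain ⟨P', p, hP', -, hp, -⟩ :=
    Groth.Agent.Lib.Helper5.KFlatSiteQ.exists_isKFlat_resolution
      (O := (Spec (CommRingCat.of R)).sheaf) F₀
  haveI : IsIso (DerivedCategory.Q.map p) := by
    rw [DerivedCategory.isIso_Q_map_iff_quasiIso]
    exact hp
  let eK : DerivedCategory.Q.obj P' ≅ K' :=
    asIso (DerivedCategory.Q.map p) ≪≫ DerivedCategory.Q.objObjPreimageIso K'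
  haveI : DCoh.HasLTensorCx P' := Groth.Agent.Lib.Helper5.LTenAll.hasLTensorCx P'
  have hq : DCoh.IsQCohD (DerivedCategory.Q.obj
      (((Scheme.Modules.pullback (specMap' φ)).mapHomologicalComplex (ComplexShape.up ℤ)).obj P')) :=
    isQCohD_of_iso ((DCoh.Lpull (specMap' φ)).mapIso eK.symm ≪≫
      Groth.Agent.Lib.Helper5.ProjF.lpullObjIsoKF (specMap' φ) P' hP') hK
  have main : ∀ N : ModuleCat.{u} R, DCoh.IsQCohD (TT P' N) := by
    refine nil_induction (RingHom.ker φ.hom) hn (fun N => DCoh.IsQCohD (TT P' N)) ?_ ?_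
    · intro N hN
      have h1 := isQCohD_TT_res φ hs P' hP' hq (killedMod φ.hom hs N hN)
      exact isQCohD_of_iso ((DCoh.LTensorCx P').mapIso ((DCoh.tildeD R).mapIso
        ((DerivedCategory.singleFunctor (ModuleCat.{u} R) 0).mapIso
          (killedIso φ.hom hs N hN).symm))) h1
    · intro T hT h₁ h₃
      exact isQCohD_TT_ext P' T hT h₁ h₃
  have h2 := main (ModuleCat.of R R)
  exact isQCohD_of_iso ((DCoh.LTensorCx P').mapIso
    (Groth.Agent.Lib.Helper5.FinPush.tildeDUnitIso R) ≪≫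
    Groth.Agent.Lib.Helper5.RHomQC.ltensorUnitIso P' ≪≫ eK) h2

end Groth.Agent.Lib.Helper5.Thick
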