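import Mathlib
import Groth.Prelude.Def_DCoh3
import Groth.Prelude.Def_DRing2
import Groth.Agent.Lib.Helper5.Thick.QCAff
import Groth.Agent.Lib.Helper5.QC.FpqcPC
import Groth.Agent.Lib.Helper5.QC.RpushPC
import Groth.Agent.Lib.Helper5.DRing.NilTorE

/-!
# Quasi-coherence and pseudo-coherence descend along nilpotent thickenings (helper5)

Let `i : X ⟶ X'` be a closed immersion which, locally on `X'`, is given by a surjection of rings
with nilpotent kernel.  For `K'` in `D(O_{X'})` (arbitrary): if `Li^* K'` has quasi-coherent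
cohomology, so has `K'`; if `Li^* K'` is pseudo-coherent, so is `K'`.
-/

set_option autoImplicit false
set_option linter.unusedSectionVars false
set_option linter.unusedVariables false
universe u
open CategoryTheory CategoryTheory.Limits Opposite TopologicalSpace AlgebraicGeometry

attribute [local instance] HasDerivedCategory.standard

namespace Groth.Agent.Lib.Helper5.Thick

open Groth.Agent.Lib.Helper5.LpullLib Groth.Agent.Lib.Helper5.StalkAdj Groth.Agent.Helper1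
  Groth.Agent.Lib.Helper5.KProj.DerHo Groth.Agent.Lib.Helper5.QC Groth.Agent.Lib.Helper5.PCApprox
  Groth.Agent.Lib.Helper5.KProj Groth.Agent.Lib.Helper5.KFlat Groth.Agent.Lib.Helper5.DTenLib
  Groth.Agent.Lib.Helper5.TildePC Groth.Agent.Lib.Helper5.FpqcPC Groth.Agent.Lib.Helper5.RestrTen

variable {X X' : Scheme.{u}} (i : X ⟶ X')

/-- `i` is, locally on the target, given by ring maps with nilpotent kernel -/
def LocNil : Prop :=
  ∀ x' : X', ∃ V : X'.Opens, IsAffineOpen V ∧ x' ∈ V ∧ IsNilpotent (RingHom.ker (i.app V).hom)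

variable [IsClosedImmersion i]

theorem chart_sq {V : X'.Opens} (hV : IsAffineOpen V) :
    Spec.map (i.app V) ≫ hV.fromSpec = (hV.preimage i).fromSpec ≫ i := by
  rw [Scheme.Hom.app_eq_appLE]
  exact IsAffineOpen.SpecMap_appLE_fromSpec i hV (hV.preimage i) le_rfl

/-- the chart statement -/
theorem isQCohD_lpull_fromSpec {V : X'.Opens} (hV : IsAffineOpen V)
    (hn : IsNilpotent (RingHom.ker (i.app V).hom)) [DCoh.HasLpull i] [DCoh.HasLpull hV.fromSpec]
    (K' : DCoh.D X') (hK : DCoh.IsQCohD ((DCoh.Lpull i).obj K')) :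
    DCoh.IsQCohD ((DCoh.Lpull hV.fromSpec).obj K') := by
  let ψ : Γ(X', V) ⟶ Γ(X, i ⁻¹ᵁ V) := i.app V
  let a := (hV.preimage i).fromSpec
  let b := hV.fromSpec
  have hsq : Spec.map ψ ≫ b = a ≫ i := chart_sq i hV
  haveI : DCoh.HasLpull a := hasLpull a
  haveI : DCoh.HasLpull (Spec.map ψ) := hasLpull _
  haveI : DCoh.HasLpull (specMap' ψ) := hasLpull _
  haveI : DCoh.HasLpull (a ≫ i) := hasLpull _
  haveI : DCoh.HasLpull (Spec.map ψ ≫ b) := hasLpull _
  obtain ⟨c1⟩ := lpull_comp (Spec.map ψ) b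
  obtain ⟨c2⟩ := lpull_comp a i
  have h1 : DCoh.IsQCohD ((DCoh.Lpull a).obj ((DCoh.Lpull i).obj K')) := isQCohD_Lpull a _ hK
  have h2 : DCoh.IsQCohD ((DCoh.Lpull (specMap' ψ)).obj ((DCoh.Lpull b).obj K')) :=
    isQCohD_of_iso (c2.app K' ≪≫ (lpullCongr hsq).symm.app K' ≪≫ (c1.app K').symm) h1
  exact isQCohD_of_lpull_affine ψ (i.app_surjective V hV) hn _ h2

/-- **quasi-coherence descends along nilpotent thickenings** -/
theorem isQCohD_of_lpull (hnil : LocNil i) [DCoh.HasLpull i] (K' : DCoh.D X')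
    (hK : DCoh.IsQCohD ((DCoh.Lpull i).obj K')) : DCoh.IsQCohD K' := by
  let F : CochainComplex X'.Modules ℤ := DerivedCategory.Q.objPreimage K'
  let e : DerivedCategory.Q.obj F ≅ K' := DerivedCategory.Q.objObjPreimageIso K'
  apply isQCohD_of_iso e
  rw [isQCohD_Q_iff]
  intro n
  choose V hV hxV hn using hnil
  refine QCohLib.isQuasicoherent_of_affine_charts _ (I := X')
    (fun x => Γ(X', V x)) (fun x => (hV x).fromSpec) ?_ ?_
  · apply le_antisymm le_top
    intro y _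
    refine Opens.mem_iSup.2 ⟨y, ?_⟩
    rw [IsAffineOpen.opensRange_fromSpec]
    exact hxV y
  · intro x
    haveI : DCoh.HasLpull (hV x).fromSpec := hasLpull _
    have h1 := isQCohD_lpull_fromSpec i (hV x) (hn x) K' hK
    obtain ⟨e1⟩ := nonempty_lpull_iso_restrictD (hV x).fromSpec K'
    have h2 : DCoh.IsQCohD (DerivedCategory.Q.obj (resCx (hV x).fromSpec F)) :=
      isQCohD_of_iso (e1 ≪≫ (DCoh.restrictD (hV x).fromSpec).mapIso e.symm ≪≫
        (Scheme.Modules.restrictFunctor (hV x).fromSpec).mapDerivedCategoryFactors.app F) h1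
    rw [isQCohD_Q_iff] at h2
    haveI := h2 n
    haveI : ((F.homology n).restrict (hV x).fromSpec).IsQuasicoherent :=
      QcAbel.isQuasicoherent_of_iso (restrictHomologyIso (hV x).fromSpec F n)
    infer_instance

/-- **pseudo-coherence descends along nilpotent thickenings** -/
theorem isPC_of_lpull (hnil : LocNil i) [DCoh.HasLpull i] (K' : DCoh.D X')
    (hK : ∀ m : ℤ, DCoh.IsPseudoCoherentD m ((DCoh.Lpull i).obj K')) (m : ℤ) :
    DCoh.IsPseudoCoherentD m K' := by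
  have hq : DCoh.IsQCohD K' := isQCohD_of_lpull i hnil K' (isQCohD_of_isPC _ hK)
  apply isPC_of_approx
  intro x
  obtain ⟨V, hV, hxV, hn⟩ := hnil x
  let ψ : Γ(X', V) ⟶ Γ(X, i ⁻¹ᵁ V) := i.app V
  let a := (hV.preimage i).fromSpec
  let b := hV.fromSpec
  have hsq : Spec.map ψ ≫ b = a ≫ i := chart_sq i hV
  refine ⟨_, b, inferInstance, by rw [hV.range_fromSpec]; exact hxV, ?_⟩
  haveI : DCoh.HasLpull a := hasLpull a
  haveI : DCoh.HasLpull b := hasLpull b
  haveI : DCoh.HasLpull (Spec.map ψ) := hasLpull _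
  haveI : DCoh.HasLpull (a ≫ i) := hasLpull _
  haveI : DCoh.HasLpull (Spec.map ψ ≫ b) := hasLpull _
  let K'' : DCoh.D (Spec Γ(X', V)) := (DCoh.Lpull b).obj K'
  have hK'' : DCoh.IsQCohD K'' := isQCohD_Lpull b K' hq
  obtain ⟨N, ⟨eN⟩⟩ := ((tildeD_main Γ(X', V)).2.2 K'').1 hK''
  have h1 : ∀ m : ℤ, DCoh.IsPseudoCoherentD m ((DCoh.Lpull a).obj ((DCoh.Lpull i).obj K')) :=
    fun m => isPseudoCoherentD_Lpull a m _ (hK m)
  obtain ⟨c1⟩ := lpull_comp (Spec.map ψ) b
  obtain ⟨c2⟩ := lpull_comp a i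
  obtain ⟨eL⟩ := Groth.Agent.Lib.Helper5.TildeCell.lbc_tilde_iso ψ
  have h2 : ∀ m : ℤ, DCoh.IsPseudoCoherentD m
      ((DCoh.tildeD Γ(X, i ⁻¹ᵁ V)).obj ((DRing.LBaseChange ψ.hom).obj N)) := fun m =>
    Groth.Agent.Lib.Helper5.PCTri.isPC_of_iso
      (c2.app K' ≪≫ (lpullCongr hsq).symm.app K' ≪≫ (c1.app K').symm ≪≫
        (DCoh.Lpull (Spec.map ψ)).mapIso eN.symm ≪≫ (eL.app N).symm) (h1 m)
  have h3 : ∀ m : ℤ, DRing.IsPseudoCoherent Γ(X, i ⁻¹ᵁ V) m ((DRing.LBaseChange ψ.hom).obj N) :=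
    fun m => (isPseudoCoherentD_tildeD_iff Γ(X, i ⁻¹ᵁ V) _ m).1 (h2 m)
  have h4 : DRing.IsPseudoCoherent Γ(X', V) m N :=
    Groth.Agent.Lib.Helper5.NilTor.pc_of_nilpotent ψ.hom (i.app_surjective V hV) hn N h3 m
  obtain ⟨e⟩ := nonempty_lpull_iso_restrictD b K'
  exact (approx_tildeD_of_isPseudoCoherent Γ(X', V) N m h4).of_iso (eN ≪≫ e)

end Groth.Agent.Lib.Helper5.Thick
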