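import Mathlib
import Groth.Agent.Lib.Helper5.Thick.Main
import Groth.Agent.Lib.Helper5.Thick.Chart
import Groth.Agent.Lib.Helper5.RelTor.AffCrit
import Groth.Agent.Lib.Helper5.RelPC.BCGeo

/-!
# Relative perfectness descends along the base change of a nilpotent thickening (helper5)
-/

set_option autoImplicit false
set_option linter.unusedSectionVars false
set_option linter.unusedVariables false
set_option linter.style.haveILetI false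
universe u
open CategoryTheory CategoryTheory.Limits Opposite TopologicalSpace AlgebraicGeometry

attribute [local instance] HasDerivedCategory.standard

namespace Groth.Agent.Lib.Helper5.Thick

open Groth.Agent.Lib.Helper5.RelTor Groth.Agent.Lib.Helper5.QC Groth.Agent.Lib.Helper5.BCGeo
  Groth.Agent.Lib.Helper5.AffComm Groth.Agent.Lib.Helper5.PCTri

variable {X X' Y Y' : Scheme.{u}} (f : X ⟶ Y) (f' : X' ⟶ Y') (i : X ⟶ X') (j : Y ⟶ Y')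

theorem exists_chart (x' : X') : ∃ (W : Y'.Opens) (V : X'.Opens) (_ : IsAffineOpen W)
    (_ : IsAffineOpen V) (_ : V ≤ f' ⁻¹ᵁ W), x' ∈ V := by
  obtain ⟨_, ⟨W, hW : IsAffineOpen W, rfl⟩, hxW, -⟩ :=
    Y'.isBasis_affineOpens.exists_subset_of_mem_open (Set.mem_univ (f' x')) isOpen_univ
  obtain ⟨_, ⟨V, hV : IsAffineOpen V, rfl⟩, hxV, hVW⟩ :=
    X'.isBasis_affineOpens.exists_subset_of_mem_open
      (show x' ∈ ((f' ⁻¹ᵁ W : X'.Opens) : Set X') from hxW) (f' ⁻¹ᵁ W).2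
  exact ⟨W, V, hW, hV, hVW, hxV⟩

/-- the base change of a locally nilpotent closed immersion is locally nilpotent -/
theorem locNil_of_isPullback (sq : IsPullback i f f' j) [IsClosedImmersion j]
    (hjn : ∀ W : Y'.Opens, IsAffineOpen W → IsNilpotent (RingHom.ker (j.app W).hom)) :
    LocNil i := by
  intro x'
  obtain ⟨W, V, hW, hV, hVW, hxV⟩ := exists_chart f' x'
  exact ⟨V, hV, hxV, isNilpotent_ker_app sq hW (hjn W hW) hV hVW⟩

/-- **relative perfectness descends along the base change of a nilpotent thickening** -/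
theorem relPerfect_of_lpull (sq : IsPullback i f f' j) [Flat f'] [IsClosedImmersion j]
    (hjn : ∀ W : Y'.Opens, IsAffineOpen W → IsNilpotent (RingHom.ker (j.app W).hom))
    [DCoh.HasLpull i] (E' : DCoh.D X')
    (hpc : ∀ m : ℤ, DCoh.IsPseudoCoherentD m ((DCoh.Lpull i).obj E'))
    (htor : DCoh.LocHasFiniteRelTorDim f ((DCoh.Lpull i).obj E')) :
    (∀ m : ℤ, DCoh.IsPseudoCoherentD m E') ∧ DCoh.LocHasFiniteRelTorDim f' E' := by
  haveI : IsClosedImmersion i := MorphismProperty.of_isPullback sq.flip inferInstance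
  haveI : Flat f := MorphismProperty.of_isPullback sq inferInstance
  have hnil : LocNil i := locNil_of_isPullback f f' i j sq hjn
  have hq : DCoh.IsQCohD E' := isQCohD_of_lpull i hnil E' (isQCohD_of_isPC _ hpc)
  apply relPerfect_of_affine_cover f' E' hq
  intro x'
  obtain ⟨W, V, hW, hV, hVW, hxV⟩ := exists_chart f' x'
  refine ⟨V, W, hV, hW, hVW, hxV, fun M ⟨eM⟩ => ?_⟩
  obtain ⟨hU', hpo⟩ := isPushout_chart sq hW hV (hW.preimage j) hVW le_rfl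
  -- the restriction of `Li^* E'` to the chart
  obtain ⟨t⟩ := nonempty_tilde_lpull i E' hV hU' inf_le_left M (eM.symm ≪≫ resTwoIso hV E')
  have h1 := relPerfect_affine_of_relPerfect f hU' (hW.preimage j) inf_le_right
    ((DCoh.Lpull i).obj E') hpc htor _ (resTwoIso hU' _ ≪≫ t.symm)
  -- algebra structures
  letI := (f'.appLE W V hVW).hom.toAlgebra
  letI := (j.appLE W (j ⁻¹ᵁ W) le_rfl).hom.toAlgebra
  letI := (f.appLE (j ⁻¹ᵁ W) (i ⁻¹ᵁ V ⊓ f ⁻¹ᵁ (j ⁻¹ᵁ W)) inf_le_right).hom.toAlgebra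
  letI := (i.appLE V (i ⁻¹ᵁ V ⊓ f ⁻¹ᵁ (j ⁻¹ᵁ W)) inf_le_left).hom.toAlgebra
  letI : Algebra Γ(Y', W) Γ(X, i ⁻¹ᵁ V ⊓ f ⁻¹ᵁ (j ⁻¹ᵁ W)) :=
    ((f.appLE (j ⁻¹ᵁ W) (i ⁻¹ᵁ V ⊓ f ⁻¹ᵁ (j ⁻¹ᵁ W)) inf_le_right).hom.comp
      (j.appLE W (j ⁻¹ᵁ W) le_rfl).hom).toAlgebra
  haveI : IsScalarTower Γ(Y', W) Γ(Y, j ⁻¹ᵁ W) Γ(X, i ⁻¹ᵁ V ⊓ f ⁻¹ᵁ (j ⁻¹ᵁ W)) :=
    IsScalarTower.of_algebraMap_eq (fun _ => rfl)
  haveI : IsScalarTower Γ(Y', W) Γ(X', V) Γ(X, i ⁻¹ᵁ V ⊓ f ⁻¹ᵁ (j ⁻¹ᵁ W)) :=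
    IsScalarTower.of_algebraMap_eq (fun x => by
      have := congrArg (fun φ => φ.hom x) hpo.w
      exact this.symm)
  haveI hpo' : Algebra.IsPushout Γ(Y', W) Γ(X', V) Γ(Y, j ⁻¹ᵁ W)
      Γ(X, i ⁻¹ᵁ V ⊓ f ⁻¹ᵁ (j ⁻¹ᵁ W)) := CommRingCat.isPushout_iff_isPushout.1 hpo
  haveI : Module.Flat Γ(Y', W) Γ(X', V) := Flat.flat_appLE f' hW hV hVW
  have hs : Function.Surjective (algebraMap Γ(Y', W) Γ(Y, j ⁻¹ᵁ W)) := by
    show Function.Surjective (j.appLE W (j ⁻¹ᵁ W) le_rfl).hom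
    rw [Scheme.Hom.appLE_eq_app]
    exact j.app_surjective W hW
  have hn' : IsNilpotent (RingHom.ker (algebraMap Γ(Y', W) Γ(Y, j ⁻¹ᵁ W))) := by
    show IsNilpotent (RingHom.ker (j.appLE W (j ⁻¹ᵁ W) le_rfl).hom)
    rw [Scheme.Hom.appLE_eq_app]
    exact hjn W hW
  exact Groth.Agent.Lib.Helper5.NilTor.isRelPerfect_of_nilpotent Γ(Y', W) Γ(X', V) Γ(Y, j ⁻¹ᵁ W)
    Γ(X, i ⁻¹ᵁ V ⊓ f ⁻¹ᵁ (j ⁻¹ᵁ W)) hs hn' M h1

end Groth.Agent.Lib.Helper5.Thick
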